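import Mathlib
import Groth.Agent.H4.PicDim1

/-!
# The algebra behind `Pic(X) → Pic(Z)` in dimension `≤ 1`, for rings with Noetherian spectrum
(adapted from `Groth.Agent.H4.PicDim1`, replacing `IsNoetherianRing` by finiteness of minimal
primes)
-/

set_option autoImplicit false
universe u
open CategoryTheory Limits AlgebraicGeometry TopologicalSpace Opposite

namespace Groth.Agent.H5.PicSp
open Groth.Agent.LD Groth.Agent.H5.Glue Groth.Agent.H4.PicDim1

/-- over a ring with Noetherian spectrum every ideal has finitely many minimal primes. -/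
theorem finite_minimalPrimes_of_noetherianSpace {R : Type u} [CommRing R]
    [NoetherianSpace (PrimeSpectrum R)] (I : Ideal R) : I.minimalPrimes.Finite := by
  have h1 : (irreducibleComponents (PrimeSpectrum.zeroLocus (I : Set R))).Finite :=
    NoetherianSpace.finite_irreducibleComponents
  have e := Ideal.minimalPrimes.equivIrreducibleComponents I
  haveI : Finite (irreducibleComponents (PrimeSpectrum.zeroLocus (I : Set R))) := h1.to_subtype
  haveI : Finite (irreducibleComponents (PrimeSpectrum.zeroLocus (I : Set R)))ᵒᵈ :=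
    inferInstanceAs (Finite (irreducibleComponents (PrimeSpectrum.zeroLocus (I : Set R))))
  haveI : Finite I.minimalPrimes := Finite.of_equiv _ e.symm.toEquiv
  exact Set.toFinite _

theorem alg_main' {R S : Type u} [CommRing R] (hfinmin : ∀ I : Ideal R, I.minimalPrimes.Finite)
    [Ring.KrullDimLE 1 R]
    [CommRing S] [Algebra R S] (m : Ideal R) [hm : m.IsPrime] (s' : R) (hs' : s' ∈ m)
    [IsLocalization.Away s' S] (J : Ideal S) (r r' : S) (hrr : r * r' - 1 ∈ J) :
    ∃ t : R, t ∉ m ∧ ∃ j ∈ J, ∃ w : S, (r + j) * w = algebraMap R S t := by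
  classical
  obtain ⟨u, hu⟩ : ∃ u : S, u = algebraMap R S s' := ⟨_, rfl⟩
  have huu : IsUnit u := by rw [hu]; exact IsLocalization.Away.algebraMap_isUnit s'
  obtain ⟨v, hv⟩ := huu.exists_right_inv
  obtain ⟨n, ρ, hρ⟩ := IsLocalization.Away.surj s' r
  obtain ⟨n', ρ', hρ'⟩ := IsLocalization.Away.surj s' r'
  rw [← hu] at hρ hρ'
  obtain ⟨JR, hJR⟩ : ∃ JR : Ideal R, JR = J.comap (algebraMap R S) := ⟨_, rfl⟩
  have hmemJR : ∀ x : R, x ∈ JR ↔ algebraMap R S x ∈ J := fun x => by rw [hJR, Ideal.mem_comap]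
  have h1 : ρ * ρ' - s' ^ (n + n') ∈ JR := by
    rw [hmemJR, map_sub, map_mul, map_pow, ← hu, ← hρ, ← hρ']
    have h2 : r * u ^ n * (r' * u ^ n') - u ^ (n + n') = (r * r' - 1) * u ^ (n + n') := by ring
    rw [h2]
    exact J.mul_mem_right _ hrr
  have hfinQ : {q : PrimeSpectrum R | q.asIdeal ∈ minimalPrimes R ∧ q.asIdeal ≤ m ∧
      s' ∉ q.asIdeal}.Finite := by
    refine Set.Finite.subset ((hfinmin ⊥).preimage
      (f := PrimeSpectrum.asIdeal) ?_) (fun q hq => hq.1)
    intro q _ q' _ h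
    exact PrimeSpectrum.ext h
  obtain ⟨Q, hQ⟩ : ∃ Q : Finset (PrimeSpectrum R), ∀ q, q ∈ Q ↔
      (q.asIdeal ∈ minimalPrimes R ∧ q.asIdeal ≤ m ∧ s' ∉ q.asIdeal) :=
    ⟨hfinQ.toFinset, fun q => by rw [Set.Finite.mem_toFinset]; rfl⟩
  obtain ⟨jR, hjR, hav⟩ := coset_avoid JR ρ Q
    (fun q hq q' hq' hle => by
      have h2 := ((hQ q').mp hq').1
      have h3 : q'.asIdeal ≤ q.asIdeal := h2.2 ⟨q.isPrime, bot_le⟩ hle
      exact PrimeSpectrum.ext (le_antisymm hle h3))
    (fun q hq hle hρq => by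
      have h2 := ((hQ q).mp hq).2.2
      apply h2
      have h3 : s' ^ (n + n') ∈ q.asIdeal := by
        have h4 : s' ^ (n + n') = ρ * ρ' - (ρ * ρ' - s' ^ (n + n')) := by ring
        rw [h4]
        exact q.asIdeal.sub_mem (q.asIdeal.mul_mem_right _ hρq) (hle h1)
      exact q.isPrime.mem_of_pow_mem _ h3)
  obtain ⟨ρ₁, hρ₁⟩ : ∃ ρ₁ : R, ρ₁ = ρ + jR := ⟨_, rfl⟩
  have hstep2 : ∃ t : R, t ∉ m ∧ ∃ (N : ℕ) (x : R), t * s' ^ N = ρ₁ * x := by
    by_contra hcon
    push Not at hcon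
    obtain ⟨M, hM⟩ : ∃ M : Submonoid R, M = m.primeCompl ⊔ Submonoid.powers s' := ⟨_, rfl⟩
    have hdisj : Disjoint ((Ideal.span {ρ₁} : Ideal R) : Set R) (M : Set R) := by
      rw [Set.disjoint_left]
      intro y hy hyM
      rw [SetLike.mem_coe, hM] at hyM
      obtain ⟨t, ht, z, ⟨N, rfl⟩, rfl⟩ := Submonoid.mem_sup.mp hyM
      obtain ⟨x, hx⟩ := Ideal.mem_span_singleton'.mp hy
      exact hcon t ht N x (by rw [← hx]; ring)
    obtain ⟨q, hqprime, hIq, hqM⟩ := Ideal.exists_le_prime_disjoint (Ideal.span {ρ₁}) M hdisj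
    have hs'q : s' ∉ q := by
      intro h
      refine Set.disjoint_left.mp hqM h ?_
      rw [SetLike.mem_coe, hM]
      exact Submonoid.mem_sup_right (Submonoid.mem_powers s')
    have hqm : q ≤ m := by
      intro x hx
      by_contra hxm
      refine Set.disjoint_left.mp hqM hx ?_
      rw [SetLike.mem_coe, hM]
      exact Submonoid.mem_sup_left hxm
    have hqmin : q ∈ minimalPrimes R := by
      rcases Ring.krullDimLE_one_iff.mp inferInstance q hqprime with h | h
      · exact h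
      · exfalso
        have h5 : q = m := h.eq_of_le hm.ne_top hqm
        rw [h5] at hs'q
        exact hs'q hs'
    have hqQ : (⟨q, hqprime⟩ : PrimeSpectrum R) ∈ Q := (hQ _).mpr ⟨hqmin, hqm, hs'q⟩
    apply hav _ hqQ
    show ρ + jR ∈ q
    rw [← hρ₁]
    exact hIq (Ideal.mem_span_singleton_self ρ₁)
  obtain ⟨t, htm, N, x, htx⟩ := hstep2
  have hvn : ∀ k : ℕ, u ^ k * v ^ k = 1 := fun k => by rw [← mul_pow, hv, one_pow]
  have hr : r = algebraMap R S ρ * v ^ n := by
    calc r = r * (u ^ n * v ^ n) := by rw [hvn, mul_one]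
      _ = (r * u ^ n) * v ^ n := by ring
      _ = algebraMap R S ρ * v ^ n := by rw [hρ]
  refine ⟨t, htm, algebraMap R S jR * v ^ n, J.mul_mem_right _ ((hmemJR jR).mp hjR),
    algebraMap R S x * u ^ n * v ^ N, ?_⟩
  have h2 : algebraMap R S t * u ^ N = algebraMap R S ρ₁ * algebraMap R S x := by
    rw [hu, ← map_pow, ← map_mul, ← map_mul, htx]
  calc (r + algebraMap R S jR * v ^ n) * (algebraMap R S x * u ^ n * v ^ N)
      = (algebraMap R S ρ + algebraMap R S jR) * algebraMap R S x * (u ^ n * v ^ n) * v ^ N := by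
        rw [hr]; ring
    _ = algebraMap R S ρ₁ * algebraMap R S x * v ^ N := by
        rw [hvn, mul_one, hρ₁, map_add]
    _ = algebraMap R S t * (u ^ N * v ^ N) := by rw [← h2]; ring
    _ = algebraMap R S t := by rw [hvn, mul_one]

theorem alg4' {R : Type u} [CommRing R] (hfinmin : ∀ I : Ideal R, I.minimalPrimes.Finite)
    [Ring.KrullDimLE 1 R] (m : Ideal R)
    [hm : m.IsMaximal] :
    ∃ s' ∈ m, ∃ s : R, s ∉ m ∧ ∀ q : Ideal R, q.IsPrime → s' ∈ q → s ∉ q → q = m := by
  classical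
  have hfinF : {q : PrimeSpectrum R | q.asIdeal ∈ minimalPrimes R ∧ q.asIdeal ≠ m}.Finite := by
    refine Set.Finite.subset ((hfinmin ⊥).preimage
      (f := PrimeSpectrum.asIdeal) ?_) (fun q hq => hq.1)
    intro q _ q' _ h
    exact PrimeSpectrum.ext h
  obtain ⟨s', hs'm, hs'F⟩ := Groth.Agent.H4.FittMor6.exists_mem_avoid m hfinF.toFinset (by
    intro p hp hle
    rw [Set.Finite.mem_toFinset] at hp
    exact hp.2 (hm.eq_of_le p.isPrime.ne_top hle).symm)
  have hfinG : {q : PrimeSpectrum R | q.asIdeal ∈ (Ideal.span {s'}).minimalPrimes ∧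
      q.asIdeal ≠ m}.Finite := by
    refine Set.Finite.subset
      ((hfinmin (Ideal.span {s'})).preimage
      (f := PrimeSpectrum.asIdeal) ?_) (fun q hq => hq.1)
    intro q _ q' _ h
    exact PrimeSpectrum.ext h
  have hGmax : ∀ q ∈ hfinG.toFinset, q.asIdeal.IsMaximal := by
    intro q hq
    rw [Set.Finite.mem_toFinset] at hq
    have hs'q : s' ∈ q.asIdeal := hq.1.1.2 (Ideal.mem_span_singleton_self s')
    rcases Ring.krullDimLE_one_iff.mp inferInstance q.asIdeal q.isPrime with h | h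
    · exfalso
      exact hs'F q (by rw [Set.Finite.mem_toFinset]; exact ⟨h, hq.2⟩) hs'q
    · exact h
  obtain ⟨s, hsG, hsm⟩ := Groth.Agent.H4.FittMor6.exists_mem_avoid
    (hfinG.toFinset.inf (fun q => q.asIdeal)) {(⟨m, hm.isPrime⟩ : PrimeSpectrum R)} (by
    intro p hp hle
    rw [Finset.mem_singleton] at hp
    rw [hp] at hle
    obtain ⟨q, hq, hqle⟩ := (Ideal.IsPrime.inf_le' hm.isPrime).mp hle
    have h1 := (hGmax q hq).eq_of_le hm.ne_top hqle
    rw [Set.Finite.mem_toFinset] at hq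
    exact hq.2 h1)
  refine ⟨s', hs'm, s, hsm _ (Finset.mem_singleton_self _), fun q hq hs'q hsq => ?_⟩
  haveI := hq
  obtain ⟨q₀, hq₀, hq₀le⟩ := Ideal.exists_minimalPrimes_le (I := Ideal.span {s'}) (J := q)
    ((Ideal.span_singleton_le_iff_mem _).mpr hs'q)
  by_cases h0 : q₀ = m
  · rw [h0] at hq₀le
    exact (hm.eq_of_le hq.ne_top hq₀le).symm
  · exfalso
    apply hsq
    apply hq₀le
    have hmem : (⟨q₀, hq₀.1.1⟩ : PrimeSpectrum R) ∈ hfinG.toFinset := by
      rw [Set.Finite.mem_toFinset]; exact ⟨hq₀, h0⟩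
    exact (Finset.inf_le hmem : hfinG.toFinset.inf (fun q => q.asIdeal) ≤ q₀) hsG


end Groth.Agent.H5.PicSp
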