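import Mathlib
import Groth.Agent.H4.PicDim1
import Groth.Agent.Lib.Helper5.PicSp.A

/-!
# `Pic(Y) → Pic(X)` is surjective for finite `X → Y`, generically a closed immersion, over a scheme
`Y` whose underlying space is Noetherian of dimension `≤ 1`
(adapted from `Groth.Agent.H4.PicDim1`, which assumes `Y` Noetherian)
-/

set_option autoImplicit false
universe u
open CategoryTheory Limits AlgebraicGeometry TopologicalSpace Opposite

namespace Groth.Agent.H5.PicSp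
open Groth.Agent.LD Groth.Agent.H5.Glue Groth.Agent.H4.PicDim1

theorem finite_minimalPrimes_affine {Y : Scheme.{u}} [NoetherianSpace Y] {A : Y.Opens}
    (hA : IsAffineOpen A) (I : Ideal Γ(Y, A)) : I.minimalPrimes.Finite := by
  haveI : NoetherianSpace (PrimeSpectrum Γ(Y, A)) :=
    hA.fromSpec.isOpenEmbedding.toIsEmbedding.toIsInducing.noetherianSpace
  exact finite_minimalPrimes_of_noetherianSpace I

theorem exists_maxpts {Y : Scheme.{u}} [NoetherianSpace Y] :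
    ∃ E : Finset Y, (∀ e ∈ E, ∀ x : Y, x ⤳ e → x = e) ∧
      (∀ z : Y, (∀ x : Y, x ⤳ z → x = z) → z ∈ E) ∧
      (∀ V : Y.Opens, Dense (V : Set Y) → ∀ e ∈ E, e ∈ V) := by
  classical
  have hfinC : (irreducibleComponents Y).Finite := NoetherianSpace.finite_irreducibleComponents
  have hfinE : {e : Y | closure {e} ∈ irreducibleComponents Y}.Finite := by
    refine Set.Finite.of_injOn (f := fun e : Y => closure ({e} : Set Y)) (fun e he => he) ?_ hfinC
    intro e _ e' _ h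
    have h' : closure ({e} : Set Y) = closure {e'} := h
    have h1 : e ⤳ e' := specializes_iff_closure_subset.mpr (by rw [h'])
    have h2 : e' ⤳ e := specializes_iff_closure_subset.mpr (by rw [h'])
    exact (h1.antisymm h2).eq
  refine ⟨hfinE.toFinset, ?_, ?_, ?_⟩
  · intro e he x hx
    rw [Set.Finite.mem_toFinset] at he
    have he' : closure {e} ∈ irreducibleComponents Y := he
    have h1 : closure {e} ⊆ closure {x} := specializes_iff_closure_subset.mp hx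
    have h2 : closure {x} ⊆ closure {e} := he'.2 (isIrreducible_singleton.closure) h1
    exact (hx.antisymm (specializes_iff_closure_subset.mpr h2)).eq
  · intro z hz
    rw [Set.Finite.mem_toFinset]
    show closure {z} ∈ irreducibleComponents Y
    have hZ := irreducibleComponent_mem_irreducibleComponents z
    obtain ⟨x, hx⟩ := QuasiSober.sober (isIrreducible_irreducibleComponent (x := z))
      isClosed_irreducibleComponent
    have hzx : x ⤳ z := by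
      rw [specializes_iff_mem_closure, hx.def]; exact mem_irreducibleComponent
    have h5 := hz x hzx
    rw [← h5, hx.def]; exact hZ
  · intro V hV e he
    rw [Set.Finite.mem_toFinset] at he
    obtain ⟨o, ho, hone, hoZ⟩ :=
      NoetherianSpace.exists_isOpen_nonempty_subset_irreducibleComponent _ he
    obtain ⟨p, hpo, hpV⟩ := hV.inter_open_nonempty o ho hone
    have h1 : e ⤳ p := specializes_iff_mem_closure.mpr (hoZ hpo)
    exact h1.mem_open V.isOpen hpV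

theorem finite_closedPts {Y : Scheme.{u}} [NoetherianSpace Y] (hdim : topologicalKrullDim Y ≤ 1)
    (A₀ : Y.Opens) (hgen : ∀ z : Y, (∀ x : Y, x ⤳ z → x = z) → z ∈ A₀) :
    ((A₀ : Set Y)ᶜ).Finite ∧ ∀ z : Y, z ∉ A₀ → IsClosed ({z} : Set Y) := by
  have hcl : ∀ z : Y, z ∉ A₀ → IsClosed ({z} : Set Y) := by
    intro z hz
    have h1 : ¬ ∀ x : Y, x ⤳ z → x = z := fun h => hz (hgen z h)
    push Not at h1
    obtain ⟨x, hxz, hne⟩ := h1
    rw [← closure_subset_iff_isClosed]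
    intro z' hz'
    have h2 : z ⤳ z' := specializes_iff_mem_closure.mpr hz'
    rcases d1 hdim x z z' hxz h2 with h | h
    · exact absurd h hne
    · exact Set.mem_singleton_iff.mpr h.symm
  refine ⟨?_, hcl⟩
  obtain ⟨S, hSfin, hScl, hSirr, hSU⟩ := NoetherianSpace.exists_finite_set_isClosed_irreducible
    (s := (A₀ : Set Y)ᶜ) A₀.isOpen.isClosed_compl
  rw [hSU]
  refine Set.Finite.sUnion hSfin (fun t ht => ?_)
  obtain ⟨x, hx⟩ := QuasiSober.sober (hSirr t ht) (hScl t ht)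
  have hxt : x ∈ t := by rw [← hx.def]; exact subset_closure (Set.mem_singleton x)
  have hxA : x ∉ A₀ := by
    have h5 : x ∈ (A₀ : Set Y)ᶜ := by rw [hSU]; exact ⟨t, ht, hxt⟩
    exact h5
  have h6 : t = {x} := by rw [← hx.def]; exact (hcl x hxA).closure_eq
  rw [h6]; exact Set.finite_singleton x

theorem exists_A0 {X Y : Scheme.{u}} (f : X ⟶ Y) [IsFinite f] [NoetherianSpace Y] (V : Y.Opens)
    (hV : Dense (V : Set Y)) (L : X.Modules) (hL : PicF.IsInvertible L) :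
    ∃ A₀ : Y.Opens, A₀ ≤ V ∧ (∀ z : Y, (∀ x : Y, x ⤳ z → x = z) → z ∈ A₀) ∧
      ∃ e₀ : Γ(L, f ⁻¹ᵁ A₀), QC.IsBasisOver L (f ⁻¹ᵁ A₀) e₀ := by
  classical
  obtain ⟨E, hE1, hE2, hE3⟩ := exists_maxpts (Y := Y)
  obtain ⟨W, hW, hWV, hEW⟩ :=
    Groth.Agent.H4.FittMor7.exists_affine_of_generic V E (hE3 V hV) hE1
  have hW' : IsAffineOpen (f ⁻¹ᵁ W) := hW.preimage f
  have hZfin : (f ⁻¹' (E : Set Y)).Finite :=
    Set.Finite.preimage' E.finite_toSet (fun y _ => f.finite_preimage_singleton y)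
  have hZW : f ⁻¹' (E : Set Y) ⊆ (f ⁻¹ᵁ W : X.Opens) := fun x hx => hEW _ hx
  obtain ⟨U', hZU', hU'W, ⟨φ⟩⟩ := QC.exists_free_nhds_of_finite 1 L
    ((QC.isInvertible_iff L).mp hL) _ hZfin _ hW' hZW
  have hC : IsClosed (f '' ((U' : Set X)ᶜ)) := f.isClosedMap _ U'.2.isClosed_compl
  let O : Y.Opens := ⟨(f '' ((U' : Set X)ᶜ))ᶜ, hC.isOpen_compl⟩
  have hOU' : f ⁻¹ᵁ (W ⊓ O) ≤ U' := by
    intro z hz
    by_contra hzU'
    exact hz.2 ⟨z, hzU', rfl⟩
  refine ⟨W ⊓ O, inf_le_left.trans hWV, fun z hz => ?_, ?_⟩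
  · have hzE := hE2 z hz
    refine ⟨hEW z hzE, ?_⟩
    rintro ⟨x, hx, hxz⟩
    exact hx (hZU' (show f x ∈ (E : Set Y) by rw [hxz]; exact hzE))
  · obtain ⟨ψ⟩ := QC.freeMod_of_range_subset L U'.ι (f ⁻¹ᵁ (W ⊓ O)).ι (by
      rw [Scheme.Opens.range_ι, Scheme.Opens.range_ι]; exact hOU') 1 φ
    exact ⟨_, QC.isBasisOver_basisOfIso L (f ⁻¹ᵁ (W ⊓ O)) (ψ ≪≫ QC.freeModOneIso _).symm⟩


theorem exists_local_data {X Y : Scheme.{u}} (f : X ⟶ Y) [IsFinite f] [NoetherianSpace Y]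
    (hdim : topologicalKrullDim Y ≤ 1) (V : Y.Opens) [hfV : IsClosedImmersion (f ∣_ V)]
    (L : X.Modules) (hL : PicF.IsInvertible L) (A₀ : Y.Opens) (hA₀V : A₀ ≤ V)
    (hfin : ((A₀ : Set Y)ᶜ).Finite) (hcl : ∀ z : Y, z ∉ A₀ → IsClosed ({z} : Set Y))
    (e₀ : Γ(L, f ⁻¹ᵁ A₀)) (he₀ : QC.IsBasisOver L (f ⁻¹ᵁ A₀) e₀) (a : Y) :
    ∃ W : Y.Opens, a ∈ W ∧ (∀ z ∈ W, z ∉ A₀ → z = a) ∧
      ∃ e : Γ(L, f ⁻¹ᵁ W), QC.IsBasisOver L (f ⁻¹ᵁ W) e ∧
      ∃ h hi : Γ(Y, W ⊓ A₀), h * hi = 1 ∧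
        mres L (show f ⁻¹ᵁ (W ⊓ A₀) ≤ f ⁻¹ᵁ A₀ from fun _ hx => hx.2) e₀ =
          (f.appLE (W ⊓ A₀) (f ⁻¹ᵁ (W ⊓ A₀)) le_rfl).hom h •
            mres L (show f ⁻¹ᵁ (W ⊓ A₀) ≤ f ⁻¹ᵁ W from fun _ hx => hx.1) e := by
  classical
  by_cases haA₀ : a ∈ A₀
  · refine ⟨A₀, haA₀, fun z hzW hz => absurd hzW hz, e₀, he₀, 1, 1, one_mul 1, ?_⟩
    rw [map_one, one_smul]
  · -- step 1: a neighbourhood meeting the bad set only in `a`
    have hclS : IsClosed ((A₀ : Set Y)ᶜ \ {a}) := by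
      have h1 : ((A₀ : Set Y)ᶜ \ {a}) = ⋃ z ∈ ((A₀ : Set Y)ᶜ \ {a}), ({z} : Set Y) := by
        rw [Set.biUnion_of_singleton]
      rw [h1]
      exact (hfin.subset Set.sdiff_subset).isClosed_biUnion (fun z hz => hcl z hz.1)
    obtain ⟨Oa, hOadef⟩ : ∃ Oa : Y.Opens, (Oa : Set Y) = ((A₀ : Set Y)ᶜ \ {a})ᶜ :=
      ⟨⟨_, hclS.isOpen_compl⟩, rfl⟩
    have haOa : a ∈ Oa := by
      show a ∈ (Oa : Set Y)
      rw [hOadef]
      exact fun h => h.2 rfl
    have hOa : ∀ z ∈ Oa, z ∉ A₀ → z = a := by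
      intro z hz hzA
      by_contra hne
      have hz' : z ∈ (Oa : Set Y) := hz
      rw [hOadef] at hz'
      exact hz' ⟨hzA, hne⟩
    -- step 2
    obtain ⟨W', haW', ⟨φ⟩⟩ := QC.exists_trivial_preimage_of_isFinite f L hL a
    obtain ⟨b, hbdef⟩ : ∃ b : Γ(L, f ⁻¹ᵁ W'), b = QC.basisOfIso L (f ⁻¹ᵁ W') φ.symm.hom :=
      ⟨_, rfl⟩
    have hb : QC.IsBasisOver L (f ⁻¹ᵁ W') b := by
      rw [hbdef]; exact QC.isBasisOver_basisOfIso L (f ⁻¹ᵁ W') φ.symm
    -- step 3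
    obtain ⟨A₁, hA₁, haA₁, hA₁le⟩ := exists_isAffineOpen_mem_and_subset (x := a)
      (U := W' ⊓ Oa) ⟨haW', haOa⟩
    -- step 4
    have hfm₁ : ∀ I : Ideal Γ(Y, A₁), I.minimalPrimes.Finite := finite_minimalPrimes_affine hA₁
    haveI : Ring.KrullDimLE 1 Γ(Y, A₁) := krullDimLE_sections hdim hA₁
    haveI hmax : (hA₁.primeIdealOf ⟨a, haA₁⟩).asIdeal.IsMaximal :=
      hA₁.primeIdealOf_isMaximal_of_isClosed ⟨a, haA₁⟩ (hcl a haA₀)
    obtain ⟨s'₁, hs'₁m, s, hsm, hss⟩ := alg4' hfm₁ (hA₁.primeIdealOf ⟨a, haA₁⟩).asIdeal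
    -- step 5
    obtain ⟨A, hAdef⟩ : ∃ A : Y.Opens, A = Y.basicOpen s := ⟨_, rfl⟩
    have hAA₁ : A ≤ A₁ := by rw [hAdef]; exact Y.basicOpen_le s
    have hA : IsAffineOpen A := by rw [hAdef]; exact hA₁.basicOpen s
    have haA : a ∈ A := by rw [hAdef]; exact (mem_basicOpen_iff hA₁ s a haA₁).mpr hsm
    obtain ⟨s', hs'def⟩ : ∃ s' : Γ(Y, A), s' = res hAA₁ s'₁ := ⟨_, rfl⟩
    have hbo : Y.basicOpen s' = A ⊓ Y.basicOpen s'₁ := by
      rw [hs'def]; exact Scheme.basicOpen_res Y s'₁ (homOfLE hAA₁).op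
    have hD : Y.basicOpen s' = A ⊓ A₀ := by
      rw [hbo]
      ext z
      constructor
      · rintro ⟨hzA, hz⟩
        refine ⟨hzA, ?_⟩
        by_contra hzA₀
        have hza := hOa z (hA₁le (hAA₁ hzA)).2 hzA₀
        rw [hza] at hz
        exact (mem_basicOpen_iff hA₁ s'₁ a haA₁).mp hz hs'₁m
      · rintro ⟨hzA, hzA₀⟩
        refine ⟨hzA, ?_⟩
        have hzA₁ : z ∈ A₁ := hAA₁ hzA
        rw [SetLike.mem_coe, mem_basicOpen_iff hA₁ s'₁ z hzA₁]
        intro hmem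
        have hsz : s ∉ (hA₁.primeIdealOf ⟨z, hzA₁⟩).asIdeal := by
          rw [← mem_basicOpen_iff hA₁ s z hzA₁, ← hAdef]; exact hzA
        have h1 := hss _ (hA₁.primeIdealOf ⟨z, hzA₁⟩).isPrime hmem hsz
        have h2 := eq_of_primeIdealOf_eq hA₁ z a hzA₁ haA₁ h1
        rw [h2] at hzA₀
        exact haA₀ hzA₀
    -- step 6
    have hDaff : IsAffineOpen (Y.basicOpen s') := hA.basicOpen s'
    have hDA₀ : Y.basicOpen s' ≤ A₀ := by rw [hD]; exact inf_le_right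
    have hDA : Y.basicOpen s' ≤ A := Y.basicOpen_le s'
    have hfm : ∀ I : Ideal Γ(Y, A), I.minimalPrimes.Finite := finite_minimalPrimes_affine hA
    haveI : Ring.KrullDimLE 1 Γ(Y, A) := krullDimLE_sections hdim hA
    haveI hloc : IsLocalization.Away s' Γ(Y, Y.basicOpen s') := hA.isLocalization_basicOpen s'
    have hs'm : s' ∈ (hA.primeIdealOf ⟨a, haA⟩).asIdeal := by
      by_contra hnot
      exact haA₀ (hDA₀ ((mem_basicOpen_iff hA s' a haA).mpr hnot))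
    -- step 7
    have hle1 : f ⁻¹ᵁ Y.basicOpen s' ≤ f ⁻¹ᵁ A₀ := fun _ hx => hDA₀ hx
    have hle2 : f ⁻¹ᵁ Y.basicOpen s' ≤ f ⁻¹ᵁ W' := fun _ hx => (hA₁le (hAA₁ (hDA hx))).1
    have hb1 := he₀.mono hle1
    have hb2 := hb.mono hle2
    obtain ⟨g, hg⟩ := hb2.exists_coord (mres L hle1 e₀)
    obtain ⟨g', hg'⟩ := hb1.exists_coord (mres L hle2 b)
    have hgg' : g * g' = 1 := by
      apply hb1.coord_injective
      rw [mul_smul, ← hg', ← hg, one_smul]
    -- step 8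
    have hsurj : Function.Surjective (f.app (Y.basicOpen s')).hom :=
      app_surjective_of_isClosedImmersion_restrict f V _ hDaff (hDA₀.trans hA₀V)
    obtain ⟨r, hr⟩ := hsurj g
    obtain ⟨r', hr'⟩ := hsurj g'
    have hrr : r * r' - 1 ∈ RingHom.ker (f.app (Y.basicOpen s')).hom := by
      rw [RingHom.mem_ker, map_sub, map_mul, map_one, hr, hr', hgg', sub_self]
    -- step 9
    obtain ⟨t, htm, j, hj, w, hw⟩ := alg_main' hfm (hA.primeIdealOf ⟨a, haA⟩).asIdeal s' hs'm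
      (RingHom.ker (f.app (Y.basicOpen s')).hom) r r' hrr
    -- step 10
    obtain ⟨W, hWdef⟩ : ∃ W : Y.Opens, W = Y.basicOpen t := ⟨_, rfl⟩
    have hWA : W ≤ A := by rw [hWdef]; exact Y.basicOpen_le t
    have haW : a ∈ W := by rw [hWdef]; exact (mem_basicOpen_iff hA t a haA).mpr htm
    have hWA₀D : W ⊓ A₀ ≤ Y.basicOpen s' := by rw [hD]; exact inf_le_inf_right _ hWA
    have hleW : f ⁻¹ᵁ W ≤ f ⁻¹ᵁ W' := fun _ hx => (hA₁le (hAA₁ (hWA hx))).1
    have htunit : IsUnit (res (inf_le_left.trans hWA : W ⊓ A₀ ≤ A) t) := by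
      have h1 : IsUnit (res (Y.basicOpen_le t) t) :=
        RingedSpace.isUnit_res_basicOpen Y.toRingedSpace t
      have h2 : W ⊓ A₀ ≤ Y.basicOpen t := by rw [← hWdef]; exact inf_le_left
      have h3 := h1.map (res h2)
      rwa [res_res] at h3
    obtain ⟨tinv, htinv⟩ := htunit.exists_right_inv
    refine ⟨W, haW, fun z hz hzA₀ => hOa z (hA₁le (hAA₁ (hWA hz))).2 hzA₀,
      mres L hleW b, hb.mono hleW, res hWA₀D (r + j), res hWA₀D w * tinv, ?_, ?_⟩
    · calc res hWA₀D (r + j) * (res hWA₀D w * tinv)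
          = res hWA₀D ((r + j) * w) * tinv := by rw [map_mul]; ring
        _ = res hWA₀D (algebraMap Γ(Y, A) Γ(Y, Y.basicOpen s') t) * tinv := by rw [hw]
        _ = res (inf_le_left.trans hWA : W ⊓ A₀ ≤ A) t * tinv := by
            have h5 : algebraMap Γ(Y, A) Γ(Y, Y.basicOpen s') t = res hDA t := rfl
            rw [h5, res_res]
        _ = 1 := htinv
    · have hX₀ : f ⁻¹ᵁ (W ⊓ A₀) ≤ f ⁻¹ᵁ Y.basicOpen s' := fun _ hx => hWA₀D hx
      have h1 := congrArg (mres L hX₀) hg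
      rw [mres_mres, mres_smul, mres_mres] at h1
      rw [mres_mres]
      have h2 : res hX₀ g =
          (f.appLE (W ⊓ A₀) (f ⁻¹ᵁ (W ⊓ A₀)) le_rfl).hom (res hWA₀D (r + j)) := by
        have hφ : (f.app (Y.basicOpen s')).hom (r + j) = g := by
          rw [map_add, hr, RingHom.mem_ker.mp hj, add_zero]
        rw [← hφ, appLE_res_left f hWA₀D le_rfl (r + j)]
        have h6 := res_appLE f hX₀ (le_refl (f ⁻¹ᵁ Y.basicOpen s')) (r + j)
        rw [Scheme.Hom.appLE_eq_app] at h6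
        exact h6
      rw [← h2]
      exact h1

theorem main_space {X Y : Scheme.{u}} (f : X ⟶ Y) [IsFinite f] [NoetherianSpace Y]
    (hdim : topologicalKrullDim Y ≤ 1) (V : Y.Opens) (hV : Dense (V : Set Y))
    (hfV : IsClosedImmersion (f ∣_ V)) (L : X.Modules) (hL : PicF.IsInvertible L) :
    ∃ N : Y.Modules, PicF.IsInvertible N ∧
      Nonempty ((Scheme.Modules.pullback f).obj N ≅ L) := by
  classical
  haveI := hfV
  obtain ⟨A₀, hA₀V, hgenA₀, e₀, he₀⟩ := exists_A0 f V hV L hL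
  obtain ⟨hfin, hcl⟩ := finite_closedPts hdim A₀ hgenA₀
  choose W haW hW1 e he H Hi hHHi hrel using
    exists_local_data f hdim V L hL A₀ hA₀V hfin hcl e₀ he₀
  have hWA : ∀ a b, a ≠ b → W a ⊓ W b ≤ A₀ := by
    intro a b hne z hz
    by_contra hzA
    exact hne ((hW1 a z hz.1 hzA).symm.trans (hW1 b z hz.2 hzA))
  let U' : Y → X.Opens := fun y => f ⁻¹ᵁ W y
  have hU' : iSup U' = ⊤ := by
    rw [eq_top_iff]
    intro x _
    exact Opens.mem_iSup.mpr ⟨f x, haW (f x)⟩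
  have hcW : iSup W = ⊤ := by
    rw [eq_top_iff]
    intro y _
    exact Opens.mem_iSup.mpr ⟨y, haW y⟩
  have hpre : ∀ y y', U' y ⊓ U' y' ≤ f ⁻¹ᵁ (W y ⊓ W y') := fun y y' _ h => h
  let η : ∀ a b, Γ(Y, W a ⊓ W b) := fun a b =>
    if hab : a = b then 1 else
      res (le_inf inf_le_left (hWA a b hab) : W a ⊓ W b ≤ W a ⊓ A₀) (Hi a) *
        res (le_inf inf_le_right (hWA a b hab) : W a ⊓ W b ≤ W b ⊓ A₀) (H b)
  have hηself : ∀ a, η a a = 1 := fun a => dif_pos rfl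
  have hηres : ∀ (a b : Y) (T : Y.Opens) (hT : T ≤ W a ⊓ W b) (h1 : T ≤ W a ⊓ A₀)
      (h2 : T ≤ W b ⊓ A₀), res hT (η a b) = res h1 (Hi a) * res h2 (H b) := by
    intro a b T hT h1 h2
    by_cases hab : a = b
    · subst hab
      rw [hηself, map_one]
      have h5 : res h1 (Hi a) * res h2 (H a) = res h1 (Hi a * H a) :=
        (map_mul (res h1) _ _).symm
      rw [h5, mul_comm, hHHi, map_one]
    · simp only [η, dif_neg hab, map_mul, res_res]
  have hηc : IsCocycle W η := by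
    intro i j k
    by_cases hij : i = j
    · subst hij
      rw [hηself, map_one, one_mul]
    · by_cases hjk : j = k
      · subst hjk
        rw [hηself, map_one, mul_one]
      · have hTA : W i ⊓ W j ⊓ W k ≤ A₀ := inf_le_left.trans (hWA i j hij)
        have hTi : W i ⊓ W j ⊓ W k ≤ W i ⊓ A₀ := le_inf (inf_le_left.trans inf_le_left) hTA
        have hTj : W i ⊓ W j ⊓ W k ≤ W j ⊓ A₀ := le_inf (inf_le_left.trans inf_le_right) hTA
        have hTk : W i ⊓ W j ⊓ W k ≤ W k ⊓ A₀ := le_inf inf_le_right hTA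
        rw [hηres i k _ _ hTi hTk, hηres i j _ _ hTi hTj, hηres j k _ _ hTj hTk]
        have hj1 : res hTj (H j) * res hTj (Hi j) = 1 := by rw [← map_mul, hHHi, map_one]
        linear_combination (-(res hTi (Hi i) * res hTk (H k))) * hj1
  have hηu : ∀ y, IsUnit (η y y) := fun y => by rw [hηself]; exact isUnit_one
  let N : Y.Modules := glueMod W η
  have hN : PicF.IsInvertible N := isInvertible_glueMod hηc hηu hcW
  haveI : N.IsQuasicoherent := QC.qc_of_isInvertible N hN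
  refine ⟨N, hN, ?_⟩
  let e'' : ∀ y, Γ((Scheme.Modules.pullback f).obj N, U' y) := fun y =>
    QC.pbSec f N (le_refl (f ⁻¹ᵁ W y)) (glueGen hηc y)
  have he'' : ∀ y, QC.IsBasisOver ((Scheme.Modules.pullback f).obj N) (U' y) (e'' y) := fun y =>
    (isBasisOver_glueGen hηc hηu y).pullback f (le_refl (f ⁻¹ᵁ W y))
  let θ : ∀ a b, Γ(X, U' a ⊓ U' b) := fun a b =>
    (f.appLE (W a ⊓ W b) (U' a ⊓ U' b) (hpre a b)).hom (η a b)
  refine nonempty_iso_of_same_transition hU' he'' he θ ?_ ?_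
  · intro y y'
    have h1 := QC.pbSec_res f N (le_refl (f ⁻¹ᵁ W y)) (hpre y y')
      (inf_le_left : U' y ⊓ U' y' ≤ U' y) (inf_le_left : W y ⊓ W y' ≤ W y) (glueGen hηc y)
    have h2 := QC.pbSec_res f N (le_refl (f ⁻¹ᵁ W y')) (hpre y y')
      (inf_le_right : U' y ⊓ U' y' ≤ U' y') (inf_le_right : W y ⊓ W y' ≤ W y') (glueGen hηc y')
    change mres _ _ (e'' y) = θ y y' • mres _ _ (e'' y')
    change _ = mres _ _ (e'' y) at h1
    change _ = mres _ _ (e'' y') at h2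
    rw [← h1, ← h2, glueGen_transition hηc y y', QC.pbSec_smul]
  · intro a b
    by_cases hab : a = b
    · subst hab
      have h5 : θ a a = 1 := by simp only [θ, hηself, map_one]
      rw [h5, one_smul]
    · have hX₀a : U' a ⊓ U' b ≤ f ⁻¹ᵁ (W a ⊓ A₀) :=
        fun z hz => ⟨hz.1, hWA a b hab ⟨hz.1, hz.2⟩⟩
      have hX₀b : U' a ⊓ U' b ≤ f ⁻¹ᵁ (W b ⊓ A₀) :=
        fun z hz => ⟨hz.2, hWA a b hab ⟨hz.1, hz.2⟩⟩
      have h1 := congrArg (mres L hX₀a) (hrel a)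
      have h2 := congrArg (mres L hX₀b) (hrel b)
      rw [mres_mres, mres_smul, mres_mres, res_appLE] at h1 h2
      have hθ : θ a b = (f.appLE (W a ⊓ A₀) (U' a ⊓ U' b) hX₀a).hom (Hi a) *
          (f.appLE (W b ⊓ A₀) (U' a ⊓ U' b) hX₀b).hom (H b) := by
        simp only [θ, η, dif_neg hab, map_mul]
        rw [appLE_res_left, appLE_res_left]
      rw [hθ, mul_smul, ← h2, h1, smul_smul, ← map_mul, mul_comm, hHHi, map_one, one_smul]


end Groth.Agent.H5.PicSp
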